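import Cfsg.Agent.H840.EP.Base
import Cfsg.Agent.H208.DS.Cent
import Cfsg.Agent.H284.EP.PS
import Cfsg.Agent.S2069

/-!
# S3499, the socle `Co1`: the group side (helper948 for helper840)

An element `y` of order 23 of `A`, `t` of order 89 commuting with `y`; everything that acts nontrivially on `<y>` acts
on `<t>`, nontrivially.
-/

set_option autoImplicit false
set_option maxHeartbeats 400000

namespace Cfsg.Agent.H948.EP

open Subgroup Cfsg Cfsg.Agent.H284 Cfsg.Agent.H419.EP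
open scoped MatrixGroups

/-- the order of `Co1` -/
def coN : ℕ := 4157776806543360000

theorem coN_factorization : ∀ l, l.Prime → l ∣ coN → l ≠ 23 → ¬ l ^ coN.factorization l ≡ 1 [MOD 23] := by
  have hbN : coN = 2 ^ 21 * (3 ^ 9 * (5 ^ 4 * (7 ^ 2 * (11 * (13 * 23))))) := by
    unfold coN; norm_num
  intro l hl hd hne
  have hmem : l = 2 ∨ l = 3 ∨ l = 5 ∨ l = 7 ∨ l = 11 ∨ l = 13 := by
    rw [hbN] at hd
    have hp : ∀ m : ℕ, m.Prime → ∀ k, l ∣ m ^ k → l = m := fun m hm k h => (Nat.prime_dvd_prime_iff_eq hl hm).1 (hl.dvd_of_dvd_pow h)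
    have hp1 : ∀ m : ℕ, m.Prime → l ∣ m → l = m := fun m hm h => (Nat.prime_dvd_prime_iff_eq hl hm).1 h
    simp only [hl.dvd_mul] at hd
    rcases hd with h | h | h | h | h | h | h
    · left; exact hp 2 (by norm_num) _ h
    · right; left; exact hp 3 (by norm_num) _ h
    · right; right; left; exact hp 5 (by norm_num) _ h
    · right; right; right; left; exact hp 7 (by norm_num) _ h
    · have := hp1 11 (by norm_num) h; tauto
    · have := hp1 13 (by norm_num) h; tauto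
    · exact absurd (hp1 23 (by norm_num) h) hne
  have hf : ∀ (m k r : ℕ), m.Prime → coN = m ^ k * r → ¬ m ∣ r → coN.factorization m = k := by
    intro m k r hm h hr
    rw [h, Nat.factorization_mul (pow_ne_zero _ hm.ne_zero) (by rintro rfl; exact hr (dvd_zero _)), Finsupp.add_apply,
      hm.factorization_pow, Finsupp.single_eq_same, Nat.factorization_eq_zero_of_not_dvd hr, add_zero]
  rcases hmem with rfl | rfl | rfl | rfl | rfl | rfl
  · rw [hf 2 21 (coN / 2 ^ 21) (by norm_num) (by unfold coN; norm_num) (by unfold coN; norm_num)]; decide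
  · rw [hf 3 9 (coN / 3 ^ 9) (by norm_num) (by unfold coN; norm_num) (by unfold coN; norm_num)]; decide
  · rw [hf 5 4 (coN / 5 ^ 4) (by norm_num) (by unfold coN; norm_num) (by unfold coN; norm_num)]; decide
  · rw [hf 7 2 (coN / 7 ^ 2) (by norm_num) (by unfold coN; norm_num) (by unfold coN; norm_num)]; decide
  · rw [hf 11 1 (coN / 11 ^ 1) (by norm_num) (by unfold coN; norm_num) (by unfold coN; norm_num)]; decide
  · rw [hf 13 1 (coN / 13 ^ 1) (by norm_num) (by unfold coN; norm_num) (by unfold coN; norm_num)]; decide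

/-- **The torus argument**: `y` of prime order `s`, `C_A(y) = <y>`, `t` of prime order `r`, `r ∤ |A|`, commuting with
`y`; everything that acts nontrivially on `<y>` acts nontrivially on `<t>`. -/
theorem torus {Q : Type*} [Group Q] [Finite Q] {A : Subgroup Q} {Γ : Subgroup (MulAut Q)} (h : EPT A Γ)
    (hno : ∀ K : Subgroup Q, K ≤ A → (∀ a ∈ A, ∀ k ∈ K, a * k * a⁻¹ ∈ K) → (∀ a ∈ K, ∀ b ∈ K, a * b = b * a) → K = ⊥)
    {s r : ℕ} (hs : s.Prime) (hr : r.Prime)
    (hfrob : ∀ l, l.Prime → l ∣ Nat.card A → l ≠ s → ¬ l ^ (Nat.card A).factorization l ≡ 1 [MOD s])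
    (hrA : ¬ r ∣ Nat.card A) {y t : Q} (hy : y ∈ A) (hyo : orderOf y = s)
    (hC : ∀ a ∈ A, a * y = y * a → a ∈ zpowers y) (hty : t * y = y * t) (hto : orderOf t = r)
    (hn : ∀ (u : Q) (k : ℕ), u * y * u⁻¹ = y ^ k → ¬ k ≡ 1 [MOD s] →
      ∃ j : ℕ, u * t * u⁻¹ = t ^ j ∧ ¬ j ≡ 1 [MOD r]) : False := by
  have hnat : ∀ z ∈ zpowers y, ∃ j : ℕ, z = y ^ j := by
    intro z hz
    obtain ⟨j, hj⟩ := (Submonoid.mem_powers_iff _ _).1 (mem_powers_iff_mem_zpowers.2 hz)
    exact ⟨j, hj.symm⟩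
  have hpow : ∀ j : ℕ, t ^ j ∈ A → t ^ j = 1 := by
    intro j hj
    have h1 : orderOf (t ^ j) ∣ r := by rw [← hto]; exact orderOf_pow_dvd j
    rcases (Nat.dvd_prime hr).1 h1 with h2 | h2
    · exact orderOf_eq_one_iff.1 h2
    · exfalso
      apply hrA
      rw [← h2]
      have h3 : orderOf (t ^ j) = orderOf (⟨t ^ j, hj⟩ : A) := Subgroup.orderOf_coe (⟨t ^ j, hj⟩ : A)
      rw [h3]
      exact orderOf_dvd_natCard _
  have htA : t ∉ A := by
    intro h1
    have h2 := hpow 1 (by rw [pow_one]; exact h1)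
    rw [pow_one] at h2
    rw [h2, orderOf_one] at hto
    exact hr.one_lt.ne hto
  have hYA : zpowers y ≤ A := by rw [zpowers_le]; exact hy
  have hcomm : ∀ z ∈ zpowers y, t * z = z * t := by
    intro z hz
    obtain ⟨j, rfl⟩ := hnat z hz
    exact ((show Commute t y from hty).pow_right j).eq
  have hYc' : zpowers y ≤ cj t A := by
    intro z hz
    rw [mem_cj, mul_assoc, ← hcomm z hz, inv_mul_cancel_left]
    exact hYA hz
  obtain ⟨u, hu, hun, huY⟩ := h.PS_norm (fun K h1 h2 h3 => hno K h1 (fun a ha k hk => h2 _ ((h.conj a).2 ha) k hk) h3)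
    hs hYA (by rw [Nat.card_zpowers, hyo]) (fun a ha h1 => hC a ha (h1 y (mem_zpowers y))) hfrob hYc' htA
  obtain ⟨k, hk⟩ := hnat _ (hun y (mem_zpowers y))
  obtain ⟨huA, hut⟩ := mem_inf.1 hu
  have hk1 : ¬ k ≡ 1 [MOD s] := by
    intro h1
    have h2 : y ^ k = y := by
      have := pow_eq_pow_iff_modEq.2 (show k ≡ 1 [MOD orderOf y] by rw [hyo]; exact h1)
      rwa [pow_one] at this
    rw [h2, mul_inv_eq_iff_eq_mul] at hk
    exact huY (hC u huA hk)
  obtain ⟨j, hj, hj1⟩ := hn u k hk hk1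
  apply hj1
  rw [mem_cj] at hut
  -- `t⁻¹ t ^ j ∈ A`
  have h1 : t⁻¹ * t ^ j ∈ A := by
    have h2 : t⁻¹ * t ^ j = (t⁻¹ * u * t) * u⁻¹ := by rw [← hj]; group
    rw [h2]
    exact A.mul_mem hut (A.inv_mem huA)
  have h3 : t⁻¹ * t ^ j = t ^ (j + (r - 1)) := by
    have h4 : t⁻¹ = t ^ (r - 1) := by
      rw [inv_eq_iff_mul_eq_one, ← pow_succ', Nat.sub_add_cancel hr.one_lt.le, ← hto, pow_orderOf_eq_one]
    rw [h4, ← pow_add, add_comm]
  rw [h3] at h1
  have h5 := hpow _ h1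
  rw [← h3, inv_mul_eq_one] at h5
  have h6 := pow_eq_pow_iff_modEq.1 (show t ^ j = t ^ 1 by rw [pow_one]; exact h5.symm)
  rwa [hto] at h6

variable {Q : Type} [Group Q] [Finite Q] {A : Subgroup Q} {Γ : Subgroup (MulAut Q)} {ι : Type} [Fintype ι]
    [DecidableEq ι] {F : Type} [Field F] [Fintype F] {S P : Subgroup (GL ι F)}

theorem torus_false (b : Big A Γ S P) (e : socle P ≃* Spor.Co1) {y t : Q} (hy : y ∈ A) (hyo : orderOf y = 23)
    (hty : t * y = y * t) (hto : orderOf t = 89)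
    (hn : ∀ (u : Q) (k : ℕ), u * y * u⁻¹ = y ^ k → ¬ k ≡ 1 [MOD 23] →
      ∃ j : ℕ, u * t * u⁻¹ = t ^ j ∧ ¬ j ≡ 1 [MOD 89]) : False := by
  have hfin := Cfsg.Agent.BpSpor.MBigCo.finite_co1
  have hcA : Nat.card A = coN := by
    rw [H840.EP.card_A b e S2069.result, Cfsg.Agent.BpSpor.MBigCo.card_co1]
    rfl
  obtain ⟨eA⟩ : Nonempty (A ≃* Spor.Co1) := by
    obtain ⟨N, h2, -, -, ⟨e'⟩⟩ := b.hasSoc' e
    have h3 : Nat.card N = coN := by
      rw [Nat.card_congr e'.toEquiv, Cfsg.Agent.BpSpor.MBigCo.card_co1]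
      rfl
    have h4 : N = A := Subgroup.eq_of_le_of_card_ge h2 (by rw [h3, hcA])
    subst h4
    exact ⟨e'⟩
  have hC : ∀ a ∈ A, a * y = y * a → a ∈ zpowers y := by
    intro a ha hay
    set y' : A := ⟨y, hy⟩ with hy'
    have hy'o : orderOf y' = 23 := by rw [← hyo]; exact (Subgroup.orderOf_coe y').symm
    have h1 : Nat.card (centralizer ({y'} : Set A)) = 23 := H208.DS.cent_co1 (K := A) ⟨eA⟩ hy'o
    have h2 : zpowers y' ≤ centralizer ({y'} : Set A) := by
      rw [zpowers_le]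
      exact mem_centralizer_singleton_iff.2 rfl
    have h3 : zpowers y' = centralizer ({y'} : Set A) :=
      Subgroup.eq_of_le_of_card_ge h2 (by rw [h1, Nat.card_zpowers, hy'o])
    have h4 : (⟨a, ha⟩ : A) ∈ zpowers y' := by
      rw [h3]
      exact mem_centralizer_singleton_iff.2 (Subtype.ext hay)
    obtain ⟨k, hk⟩ := mem_zpowers_iff.1 h4
    exact mem_zpowers_iff.2 ⟨k, by
      have := congrArg Subtype.val hk
      simpa using this⟩
  refine torus b.ept (fun K h1 h2 h3 => b.hasSoc.no_abelian b.core.simple (fun h => b.core.nonabelian ⟨⟨h⟩⟩) h1 h2 h3)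
    (by norm_num : Nat.Prime 23) (by norm_num : Nat.Prime 89) ?_ ?_ hy hyo hC hty hto hn
  · rw [hcA]
    exact coN_factorization
  · rw [hcA]
    unfold coN
    norm_num

end Cfsg.Agent.H948.EP
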