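import Cfsg.Agent.H948.EP.BLin
import Cfsg.Agent.H181.EP.Num
import Cfsg.Agent.H812.EP.Ly
import Cfsg.Agent.H444.EP.Mon
import Cfsg.Agent.H806.LsFiTwo

/-!
# S3499, layer V, the socle `B` (helper948, task 6098)
-/

set_option autoImplicit false
set_option maxHeartbeats 400000

namespace Cfsg.Agent.H948.EP

open Subgroup Cfsg Cfsg.Agent.H284 Cfsg.Agent.H419.EP Cfsg.Agent.H59.EP
open scoped MatrixGroups

variable {Q : Type} [Group Q] [Finite Q] {A : Subgroup Q} {Γ : Subgroup (MulAut Q)} {ι : Type} [Fintype ι]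
    [DecidableEq ι] {F : Type} [Field F] [Fintype F] {S P : Subgroup (GL ι F)}

/-- the factorisation -/
def lB : List (ℕ × ℕ) := [(2, 41), (3, 13), (5, 6), (7, 2), (11, 1), (13, 1), (17, 1), (19, 1), (23, 1), (31, 1), (47, 1)]

theorem prime_lB : ∀ x ∈ lB, x.1.Prime ∧ 0 < x.2 := by
  intro x hx
  simp only [lB, List.mem_cons, List.not_mem_nil, or_false] at hx
  rcases hx with rfl | rfl | rfl | rfl | rfl | rfl | rfl | rfl | rfl | rfl | rfl <;>
    exact ⟨by norm_num, by norm_num⟩

theorem bnd_le {G N m : ℕ} (h : (lB.map fun x => gal x.1 x.2).sum ≤ G)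
    (h2 : N * (1 + (G * (N / 6) + N ^ 2 / 60 + N ^ 3 / 12744000) * (2 * (N / 6))) ≤ m) : H812.EP.bnd lB N ≤ m := by
  refine le_trans ?_ h2
  unfold H812.EP.bnd
  gcongr

theorem gal_lB : (lB.map fun x => gal x.1 x.2).sum ≤ 2 ^ 424 := by
  decide +kernel

theorem num_lB : bN * (1 + (2 ^ 424 * (bN / 6) + bN ^ 2 / 60 + bN ^ 3 / 12744000) * (2 * (bN / 6))) ≤ 2 ^ 755 := by
  decide +kernel

/-- the order of `Q` -/
theorem card_Q_le (hg : TwoGen.{0}) (b : Big A Γ S P) (e : socle P ≃* Spor.BabyMonster) : Nat.card Q ≤ 2 ^ 755 := by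
  obtain ⟨eA⟩ := exists_equiv (b.hasSoc' e)
  have hcA : Nat.card A = bN := card_of_equiv eA
  exact (H812.EP.card_le hg b lB prime_lB (by decide) (N := bN) (by decide +kernel) (by rw [hcA])
    (by unfold bN; norm_num)).trans (bnd_le gal_lB num_lB)

/-- `47 ∣ |Q|` etc. -/
theorem dvd_Q (b : Big A Γ S P) (e : socle P ≃* Spor.BabyMonster) : bN ∣ Nat.card Q := by
  obtain ⟨eA⟩ := exists_equiv (b.hasSoc' e)
  rw [← card_of_equiv eA]
  exact Subgroup.card_subgroup_dvd_card A

open Cfsg.Agent.H181.EP in
/-- one entry of the table of helper181 -/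
theorem kill_ent (b : Big A Γ S P) {B N : ℕ} (hB : Nat.card Q ≤ B) (hN : N ∣ Nat.card Q) (e : Ent)
    (hc : chk B N e = true) (hp : e.s.Prime ∧ e.sb.Prime ∧ e.su.Prime) (heq : e.q = Fintype.card F) : False := by
  have hn := b.thirteen
  have hF := b.two_le
  have hord := b.ord
  set n := Fintype.card ι with hnn
  obtain ⟨hs, hsb, hsu⟩ := hp
  rw [chk, Bool.and_eq_true] at hc
  obtain ⟨c1, c2⟩ := hc
  rw [heq] at c1 c2
  have hM : e.M ≤ n := le_of_okp hn hs c1 fun s hs h1 h2 => ord_lin b.m hs (h1.trans hN) h2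
  rcases Bool.or_eq_true _ _ ▸ c2 with c2 | c2
  · rw [Bool.and_eq_true, decide_eq_true_eq] at c2
    have h3 : e.M * (e.M - 1) / 2 ≤ n * (n - 1) / 2 := Nat.div_le_div_right (Nat.mul_le_mul hM (by omega))
    have h4 := H181.EP.pow_mono (by omega) h3 hord
    omega
  · simp only [Bool.and_eq_true, decide_eq_true_eq] at c2
    obtain ⟨⟨⟨c3, c4⟩, c5⟩, c6⟩ := c2
    have bil : Bil n (Fintype.card F) (Nat.card Q) → e.Mb ≤ n := fun h =>
      le_of_okp' hn hsb c4 fun s hs h1 h2 => h s hs (h1.trans hN) h2
    rcases H181.EP.cases b with h | ⟨-, h, h'⟩ | ⟨r, hr, h, h'⟩ | ⟨h, h', -⟩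
    · have h3 : e.M ^ 2 - 2 ≤ n ^ 2 - 2 := Nat.sub_le_sub_right (Nat.pow_le_pow_left hM 2) 2
      have h4 := H181.EP.pow_mono (by omega) h3 h
      omega
    · have h3 : e.Mb * (e.Mb - 1) / 2 ≤ n * (n + 1) / 2 :=
        Nat.div_le_div_right (Nat.mul_le_mul (bil h') (by have := bil h'; omega))
      have h4 := H181.EP.pow_mono (by omega) h3 h
      omega
    · rcases Bool.or_eq_true _ _ ▸ c6 with c7 | c7
      · rw [decide_eq_true_eq] at c7
        refine c7.2 r ?_ hr.symm
        rw [hr]
        exact Nat.le_self_pow two_ne_zero r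
      · simp only [Bool.and_eq_true, decide_eq_true_eq] at c7
        obtain ⟨⟨c8, c9⟩, c10⟩ := c7
        have hrr : e.r = r := by
          have : e.r ^ 2 = r ^ 2 := by rw [c8, hr]
          exact Nat.pow_left_injective (n := 2) (by norm_num) this
        rw [hrr] at c9 c10
        have hr1 : 1 ≤ r := by
          rcases Nat.eq_zero_or_pos r with h0 | h0
          · rw [h0] at hr
            omega
          · exact h0
        have h5 : e.Mu ≤ n := le_of_okp' hn hsu c9 fun s hs h1 h2 => h' s hs (h1.trans hN) h2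
        have h3 : e.Mu ^ 2 - 3 ≤ n ^ 2 - 3 := Nat.sub_le_sub_right (Nat.pow_le_pow_left h5 2) 3
        have h4 := H181.EP.pow_mono hr1 h3 h
        omega
    · have h3 : e.Mb * (e.Mb - 1) / 2 ≤ n * (n - 1) / 2 :=
        Nat.div_le_div_right (Nat.mul_le_mul (bil h') (by have := bil h'; omega))
      have h4 := H181.EP.pow_mono (by omega) h3 h
      omega

theorem og_neg_two : orderOf (-((2 : ℕ) : ZMod 47)) = 46 := by
  have hfact : Fact (Nat.Prime 47) := ⟨by norm_num⟩
  apply orderOf_eq_of_pow_and_pow_div_prime (by norm_num)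
  · decide
  · intro p hp hpd
    have : p ∈ Nat.primeFactors 46 := Nat.mem_primeFactors.2 ⟨hp, hpd, by norm_num⟩
    have h4 : Nat.primeFactors 46 = {2, 23} := by decide +kernel
    rw [h4] at this
    simp only [Finset.mem_insert, Finset.mem_singleton] at this
    rcases this with rfl | rfl <;> decide

/-- **The socle `B` in the residual class, dimension at least 13.** -/
theorem row_B (hg : TwoGen.{0}) (hK : Cfsg.Agent.H995.CopEngine.AllKnown.{0}) : BigOf (fun L _ => Spor.IsoB L) := by
  rintro Q _ _ A Γ ι _ _ F _ _ S P b ⟨e⟩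
  have hQ := card_Q_le hg b e
  have hN := dvd_Q b e
  have h47 : 47 ∣ Nat.card Q := dvd_trans (by unfold bN; norm_num) hN
  have hp47 : Nat.Prime 47 := by norm_num
  have h758 : 8 * Nat.card Q ≤ 2 ^ 758 := by
    calc 8 * Nat.card Q ≤ 8 * 2 ^ 755 := Nat.mul_le_mul_left 8 hQ
      _ = 2 ^ 758 := by decide +kernel
  obtain ⟨p, hp⟩ := CharP.exists F
  obtain ⟨k, hpr, hc⟩ := FiniteField.card F p
  have hk0 : 0 < (k : ℕ) := k.2
  by_cases h2 : Fintype.card F = 2
  · -- two elements
    rcases b.kind with ⟨hS, -, -, -, -⟩ | ⟨f, hf, hS, h3, -, -, -⟩ | ⟨q, hq, -⟩ | ⟨Qf, hQf, hS, ho, -⟩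
    · exact lin2 hK b e hS h2
    · omega
    · rw [h2] at hq
      have : q < 2 := by nlinarith
      interval_cases q <;> omega
    · have h1 : 46 ≤ Fintype.card ι := by
        rw [← og_neg_two, ← h2]
        refine H181.EP.ord_bil b.m hQf.polar_bilinear hQf.nondegenerate ?_ hp47 h47 (by rw [h2]; norm_num)
        rw [hS]
        exact H181.EP.fixes_polar Qf
      have h3 := (b.ord_two h1).trans h758
      rw [Nat.pow_le_pow_iff_right (by norm_num)] at h3
      norm_num at h3
  by_cases hp2 : p = 2
  · -- characteristic 2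
    subst hp2
    by_cases hk : (k : ℕ) ≤ 9
    · have hk2 : 2 ≤ (k : ℕ) := by
        by_contra hcon
        have : (k : ℕ) = 1 := by omega
        rw [this] at hc
        omega
      obtain ⟨k, hk0'⟩ := k
      simp only [PNat.mk_coe] at hc hk hk2 hk0
      interval_cases k
      · refine kill_ent b hQ hN {q := 4, s := 47, M := 23, full := false, sb := 47, Mb := 46, r := 2, su := 47, Mu := 46}
          (by decide +kernel) ⟨by norm_num, by norm_num, by norm_num⟩ hc.symm
      · exact kill_ent b hQ hN {q := 8, s := 47, M := 23, full := true} (by decide +kernel)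
          ⟨by norm_num, by norm_num, by norm_num⟩ hc.symm
      · exact kill_ent b hQ hN {q := 16, s := 47, M := 23, full := true} (by decide +kernel)
          ⟨by norm_num, by norm_num, by norm_num⟩ hc.symm
      · exact kill_ent b hQ hN {q := 32, s := 47, M := 23, full := true} (by decide +kernel)
          ⟨by norm_num, by norm_num, by norm_num⟩ hc.symm
      · exact kill_ent b hQ hN {q := 64, s := 47, M := 23, full := true} (by decide +kernel)
          ⟨by norm_num, by norm_num, by norm_num⟩ hc.symm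
      · exact kill_ent b hQ hN {q := 128, s := 47, M := 23, full := true} (by decide +kernel)
          ⟨by norm_num, by norm_num, by norm_num⟩ hc.symm
      · exact kill_ent b hQ hN {q := 256, s := 47, M := 23, full := true} (by decide +kernel)
          ⟨by norm_num, by norm_num, by norm_num⟩ hc.symm
      · exact kill_ent b hQ hN {q := 512, s := 47, M := 23, full := true} (by decide +kernel)
          ⟨by norm_num, by norm_num, by norm_num⟩ hc.symm
    · have h3 : 2 ^ 780 ≤ 8 * Nat.card Q := by
        refine le_trans ?_ b.ord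
        rw [hc, ← pow_mul]
        apply Nat.pow_le_pow_right (by norm_num)
        have h4 : 13 * (13 - 1) / 2 ≤ Fintype.card ι * (Fintype.card ι - 1) / 2 :=
          Nat.div_le_div_right (Nat.mul_le_mul b.thirteen (by have := b.thirteen; omega))
        calc 780 = 10 * (13 * (13 - 1) / 2) := by norm_num
          _ ≤ _ := Nat.mul_le_mul (by omega) h4
      have h5 := h3.trans h758
      rw [Nat.pow_le_pow_iff_right (by norm_num)] at h5
      norm_num at h5
  · -- odd characteristic
    by_cases h3 : Fintype.card F = 3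
    · refine kill_ent b hQ hN {q := 3, s := 31, M := 30, full := false, sb := 47, Mb := 46}
          (by decide +kernel) ⟨by norm_num, by norm_num, by norm_num⟩ h3.symm
    · have hs : IsSimpleGroup Spor.BabyMonster := (MulEquiv.isSimpleGroup_congr e).1 b.core.simple
      have hnc : ∃ g h : Spor.BabyMonster, g * h ≠ h * g := by
        by_contra hcon
        push Not at hcon
        apply b.core.nonabelian
        constructor
        constructor
        intro x y
        apply e.injective
        rw [map_mul, map_mul]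
        exact hcon _ _
      have h28 : 28 ≤ Fintype.card ι := by
        refine H444.EP.Mon.le_of_ls b e (H806.Ls.b_ls_two hnc) ?_
        intro h0
        have h1 : p ∣ 2 := (CharP.cast_eq_zero_iff F p 2).1 (by exact_mod_cast h0)
        exact hp2 ((Nat.prime_dvd_prime_iff_eq hpr Nat.prime_two).1 h1)
      have hq5 : 5 ≤ Fintype.card F := by
        have h6 := b.two_le
        by_contra hcon
        have h4 : Fintype.card F = 4 := by omega
        rw [h4] at hc
        have h5 : p ∣ 4 := by rw [hc]; exact dvd_pow_self p hk0.ne'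
        have h7 : p ∣ 2 := hpr.dvd_of_dvd_pow (n := 2) (by simpa using h5)
        exact hp2 ((Nat.prime_dvd_prime_iff_eq hpr Nat.prime_two).1 h7)
      have h4 : 5 ^ 378 ≤ 8 * Nat.card Q := by
        refine le_trans ?_ b.ord
        refine (Nat.pow_le_pow_left hq5 378).trans (Nat.pow_le_pow_right (by omega) ?_)
        exact Nat.div_le_div_right (c := 2) (Nat.mul_le_mul h28 (show 27 ≤ Fintype.card ι - 1 by omega))
      have h5 : (2 : ℕ) ^ 758 < 5 ^ 378 := by decide +kernel
      exact absurd (h4.trans h758) (not_le.2 h5)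

end Cfsg.Agent.H948.EP
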