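import Cfsg.Agent.H419.EP.Soc
import Cfsg.Agent.H713.Spor.B
import Cfsg.Agent.H291.SCBaby
import Cfsg.Agent.S2084

/-!
# S3499, the Baby Monster: facts (helper948)

* `exists_equiv` : `HasSoc A B` implies `A ≃* B`;
* `cent47` : elements of order 47 are self-centralizing;
* `exists_w` : their normalizer is `47:23`.
-/

set_option autoImplicit false
set_option maxHeartbeats 400000

namespace Cfsg.Agent.H948.EP

open Subgroup Cfsg Cfsg.Agent.H284 Cfsg.Agent.H419.EP
open scoped Pointwise

/-- the order of `B` -/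
def bN : ℕ := 4154781481226426191177580544000000

theorem card_mulAut_b : Nat.card (MulAut Spor.BabyMonster) ≤ bN := by
  have hfin : Finite Spor.BabyMonster := CTwoTab.BInst.finite_B
  have h1 : Function.Surjective (MulAut.conj : Spor.BabyMonster →* MulAut Spor.BabyMonster) := by
    intro α
    obtain ⟨g, hg⟩ := Cfsg.Agent.CpAut.TwoInner.inner_b α
    exact ⟨g, hg.symm⟩
  have h2 := Nat.card_le_card_of_surjective _ h1
  rwa [H713.Spor.B.card_b] at h2

theorem exists_equiv {Q : Type*} [Group Q] [Finite Q] {A : Subgroup Q} (h : HasSoc A Spor.BabyMonster) :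
    Nonempty (A ≃* Spor.BabyMonster) := by
  have hfin : Finite Spor.BabyMonster := CTwoTab.BInst.finite_B
  have h1 := h.card_le.trans card_mulAut_b
  obtain ⟨N, h2, -, -, ⟨e⟩⟩ := h
  have h3 : Nat.card N = bN := by
    rw [Nat.card_congr e.toEquiv, H713.Spor.B.card_b]
    rfl
  have h4 : N = A := Subgroup.eq_of_le_of_card_ge h2 (by rw [h3]; exact h1)
  subst h4
  exact ⟨e⟩

theorem card_of_equiv {G : Type*} [Group G] (e : G ≃* Spor.BabyMonster) : Nat.card G = bN := by
  rw [Nat.card_congr e.toEquiv, H713.Spor.B.card_b]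
  rfl

/-- elements of order 47 are self-centralizing -/
theorem cent47 (hK : Cfsg.Agent.H995.CopEngine.AllKnown.{0}) {G : Type*} [Group G] (e : G ≃* Spor.BabyMonster) {y : G} (hy : orderOf y = 47) {a : G}
    (ha : a * y = y * a) : a ∈ zpowers y := by
  have hfin : Finite Spor.BabyMonster := CTwoTab.BInst.finite_B
  have hy' : orderOf (e y) = 47 := by rw [← hy]; exact orderOf_injective e.toMonoidHom e.injective y
  have h1 : Nat.card (centralizer ({e y} : Set Spor.BabyMonster)) = 47 := H291.SCBaby.sc hK (e y) hy'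
  have h2 : zpowers (e y) ≤ centralizer ({e y} : Set Spor.BabyMonster) := by
    rw [zpowers_le]
    exact mem_centralizer_singleton_iff.2 rfl
  have h3 : zpowers (e y) = centralizer ({e y} : Set Spor.BabyMonster) :=
    Subgroup.eq_of_le_of_card_ge h2 (by rw [h1, Nat.card_zpowers, hy'])
  have h4 : e a ∈ zpowers (e y) := by
    rw [h3]
    exact mem_centralizer_singleton_iff.2 (by rw [← map_mul, ← map_mul, ha])
  obtain ⟨k, hk⟩ := mem_zpowers_iff.1 h4
  refine mem_zpowers_iff.2 ⟨k, e.injective ?_⟩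
  rw [map_zpow, hk]

/-- **The normalizer of a subgroup of order 47.** -/
theorem exists_w {G : Type*} [Group G] [Finite G] (hG : Nat.card G = bN) {y : G} (hy : orderOf y = 47)
    (hC : ∀ a, a * y = y * a → a ∈ zpowers y) :
    ∃ w : G, orderOf w = 23 ∧ (∀ z ∈ zpowers y, w * z * w⁻¹ ∈ zpowers y) ∧
      ∀ a : G, (∀ z ∈ zpowers y, a * z * a⁻¹ ∈ zpowers y) → ∃ z ∈ zpowers y, ∃ k : ℤ, a = z * w ^ k := by
  have hF : Fact (Nat.Prime 47) := ⟨by norm_num⟩
  have hF2 : Fact (Nat.Prime 23) := ⟨by norm_num⟩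
  set Y := zpowers y with hY
  have hYc : Nat.card Y = 47 := by rw [hY, Nat.card_zpowers, hy]
  -- `Y` is a Sylow subgroup
  have hps : IsPGroup 47 Y := IsPGroup.of_card (n := 1) (by rw [hYc, pow_one])
  obtain ⟨P, hP⟩ := hps.exists_le_sylow
  have hPY : (P : Subgroup G) = Y := by
    symm
    apply Subgroup.eq_of_le_of_card_ge hP
    obtain ⟨k, hk⟩ := IsPGroup.iff_card.1 P.2
    have h1 : (47 : ℕ) ^ k ∣ bN := by
      rw [← hG, ← hk]
      exact card_subgroup_dvd_card _
    have h2 : k < 2 := by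
      by_contra hk2
      have h3 : (47 : ℕ) ^ 2 ∣ bN := (pow_dvd_pow 47 (by omega)).trans h1
      unfold bN at h3
      norm_num at h3
    rw [hk, hYc]
    calc 47 ^ k ≤ 47 ^ 1 := Nat.pow_le_pow_right (by norm_num) (by omega)
      _ = 47 := pow_one _
  have hsy : (normalizer (Y : Set G)).index ≡ 1 [MOD 47] := by
    have h1 := card_sylow_modEq_one 47 G
    have h2 : ((P : Sylow 47 G) : Set G) = (Y : Set G) := by rw [← hPY]; rfl
    rw [P.card_eq_index_normalizer, h2] at h1
    exact h1
  -- the order of the normalizer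
  obtain ⟨j, hj, hjd⟩ : ∃ j, Nat.card (normalizer (Y : Set G)) = 47 * j ∧ j ∣ 46 := by
    have hcyc : IsCyclic Y := isCyclic_of_prime_card hYc
    have h1 := Y.normalizerMonoidHom.ker.card_mul_index
    rw [index_ker] at h1
    refine ⟨Nat.card Y.normalizerMonoidHom.range, ?_, ?_⟩
    · rw [← h1]
      congr 1
      rw [Subgroup.normalizerMonoidHom_ker]
      have h2 : ((centralizer (Y : Set G)).subgroupOf (normalizer (Y : Set G))) = Y.subgroupOf (normalizer (Y : Set G)) := by
        ext ⟨a, ha⟩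
        rw [mem_subgroupOf, mem_subgroupOf]
        constructor
        · intro h3
          exact hC a (mem_centralizer_iff.1 h3 y (mem_zpowers y)).symm
        · intro h3
          rw [mem_centralizer_iff]
          intro z hz
          have := (IsCyclic.commGroup (α := Y)).mul_comm ⟨z, hz⟩ ⟨a, h3⟩
          exact congrArg Subtype.val this
      rw [h2, Nat.card_congr (Subgroup.subgroupOfEquivOfLe le_normalizer).toEquiv, hYc]
    · have h2 := card_subgroup_dvd_card Y.normalizerMonoidHom.range
      rw [IsCyclic.card_mulAut, hYc] at h2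
      have h3 : Nat.totient 47 = 46 := by rw [Nat.totient_prime (by norm_num)]
      rwa [h3] at h2
  have hj23 : j = 23 := by
    have h1 := (normalizer (Y : Set G)).card_mul_index
    rw [hj, hG] at h1
    have h2 : j ∈ Nat.divisors 46 := Nat.mem_divisors.2 ⟨hjd, by norm_num⟩
    have h3 : Nat.divisors 46 = {1, 2, 23, 46} := by decide
    rw [h3] at h2
    simp only [Finset.mem_insert, Finset.mem_singleton] at h2
    unfold Nat.ModEq at hsy
    unfold bN at h1
    rcases h2 with rfl | rfl | rfl | rfl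
    · exfalso; omega
    · exfalso; omega
    · rfl
    · exfalso; omega
  subst hj23
  -- the complement
  obtain ⟨w, hw⟩ := exists_prime_orderOf_dvd_card' (G := normalizer (Y : Set G)) 23 (by rw [hj]; norm_num)
  have hw' : orderOf (w : G) = 23 := by rw [Subgroup.orderOf_coe, hw]
  have hwn : ∀ z ∈ Y, (w : G) * z * (w : G)⁻¹ ∈ Y := fun z hz => (mem_normalizer_iff.1 w.2 z).1 hz
  refine ⟨w, hw', hwn, ?_⟩
  intro a ha
  have haN : a ∈ normalizer (Y : Set G) := by
    rw [mem_normalizer_iff_map_conj_eq]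
    apply Subgroup.eq_of_le_of_card_ge
    · rintro _ ⟨z, hz, rfl⟩
      exact ha z hz
    · exact (Nat.card_congr (Y.equivMapOfInjective (MulAut.conj a).toMonoidHom (MulAut.conj a).injective).toEquiv).le
  -- `Y <w>` has order `47 * 23`
  have hWc : Nat.card (zpowers (w : G)) = 23 := by rw [Nat.card_zpowers, hw']
  have hYN : Y ≤ normalizer (Y : Set G) := le_normalizer
  have hWN : zpowers (w : G) ≤ normalizer (Y : Set G) := by rw [zpowers_le]; exact w.2
  have hmem : a ∈ Y ⊔ zpowers (w : G) := by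
    have h1 : Y ⊔ zpowers (w : G) = normalizer (Y : Set G) := by
      apply Subgroup.eq_of_le_of_card_ge (sup_le hYN hWN)
      have h2 : 47 ∣ Nat.card (Y ⊔ zpowers (w : G) : Subgroup G) := by
        rw [← hYc]; exact card_dvd_of_le le_sup_left
      have h3 : 23 ∣ Nat.card (Y ⊔ zpowers (w : G) : Subgroup G) := by
        rw [← hWc]; exact card_dvd_of_le le_sup_right
      have h4 : 47 * 23 ∣ Nat.card (Y ⊔ zpowers (w : G) : Subgroup G) :=
        Nat.Coprime.mul_dvd_of_dvd_of_dvd (by norm_num) h2 h3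
      rw [hj]
      exact Nat.le_of_dvd Nat.card_pos h4
    rw [h1]
    exact haN
  obtain ⟨z, hz, v, hv, e⟩ : ∃ z ∈ Y, ∃ v ∈ zpowers (w : G), z * v = a := by
    have h1 : (((Y ⊔ zpowers (w : G) : Subgroup G)) : Set G) = (Y : Set G) * (zpowers (w : G) : Set G) :=
      Subgroup.coe_mul_of_right_le_normalizer_left Y (zpowers (w : G)) hWN
    rw [← SetLike.mem_coe, h1] at hmem
    exact Set.mem_mul.1 hmem
  obtain ⟨k, hk⟩ := mem_zpowers_iff.1 hv
  exact ⟨z, hz, k, by rw [hk]; exact e.symm⟩

end Cfsg.Agent.H948.EP
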