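import Mathlib

/-!
# S3499, the Baby Monster: partial substitution for elements of order 47 over the field of two elements (helper948)
-/

set_option autoImplicit false
set_option maxHeartbeats 400000

namespace Cfsg.Agent.H948.EP

open scoped MatrixGroups

section ring

variable {R : Type*} [Ring R] (h2 : (2 : R) = 0)

include h2

theorem sq_p (u : R) : (1 + u + u ^ 2) ^ 2 = 1 + u ^ 2 + (u ^ 2) ^ 2 := by
  have h : (1 + u + u ^ 2) ^ 2 = 1 + u ^ 2 + (u ^ 2) ^ 2 + 2 * (u + u ^ 2 + u ^ 3) := by noncomm_ring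
  rw [h, h2, zero_mul, add_zero]

theorem frob (u : R) (e : ℕ) : (1 + u + u ^ 2) ^ (2 ^ e) = 1 + u ^ (2 ^ e) + (u ^ (2 ^ e)) ^ 2 := by
  induction e with
  | zero => simp
  | succ e ih =>
    rw [pow_succ 2 e, pow_mul, ih, sq_p h2, pow_mul]

theorem frob' (u : R) (i e : ℕ) :
    ((1 + u + u ^ 2) * u ^ i) ^ (2 ^ e) = (1 + u ^ (2 ^ e) + (u ^ (2 ^ e)) ^ 2) * (u ^ (2 ^ e)) ^ i := by
  have hc : Commute (1 + u + u ^ 2) (u ^ i) := by
    refine Commute.add_left (Commute.add_left (Commute.one_left _) ?_) ?_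
    · exact Commute.pow_right (Commute.refl u) i
    · exact Commute.pow_pow (Commute.refl u) 2 i
  rw [hc.mul_pow, frob h2, ← pow_mul, ← pow_mul, ← pow_mul, mul_comm i]

theorem p_ne_pow {u : R} (hu : u ^ 47 = 1) (hu1 : u ≠ 1) (j : ℕ) : 1 + u + u ^ 2 ≠ u ^ j := by
  intro h
  have h1 : (1 + u + u ^ 2) ^ (2 ^ 19) = (u ^ j) ^ (2 ^ 19) := by rw [h]
  have hp : ∀ m : ℕ, u ^ m = u ^ (m % 47) := by
    intro m
    conv_lhs => rw [← Nat.div_add_mod m 47, pow_add, pow_mul, hu, one_pow, one_mul]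
  have h3 : u ^ (2 ^ 19) = u ^ 3 := by
    rw [hp]
    norm_num
  have h4 : (u ^ j) ^ (2 ^ 19) = (u ^ j) ^ 3 := by
    rw [← pow_mul, mul_comm, pow_mul, h3, ← pow_mul, mul_comm, pow_mul]
  rw [frob h2, h3, h4, ← h] at h1
  have h5 : (1 + u + u ^ 2) ^ 3 = 1 + u ^ 3 + (u ^ 3) ^ 2 + (u + u ^ 5) + 2 * (u + 3 * u ^ 2 + 3 * u ^ 3 + 3 * u ^ 4 + u ^ 5) := by
    noncomm_ring
  rw [h5, h2, zero_mul, add_zero] at h1
  have h6 : u + u ^ 5 = 0 := by
    have := h1
    simpa using this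
  have h7 : u = u ^ 5 := by
    have h8 : u + u ^ 5 + u ^ 5 = u ^ 5 := by rw [h6, zero_add]
    have h9 : u ^ 5 + u ^ 5 = 0 := by rw [← two_mul, h2, zero_mul]
    rw [add_assoc, h9, add_zero] at h8
    exact h8
  -- `u ^ 4 = 1`
  have h8 : u ^ 4 = 1 := by
    have h9 : u * u ^ 46 = u ^ 5 * u ^ 46 := by rw [← h7]
    rw [← pow_succ', hu, ← pow_add] at h9
    rw [h9, hp (5 + 46)]
  apply hu1
  calc u = u ^ 48 := by rw [hp 48]; simp
    _ = (u ^ 4) ^ 12 := by rw [← pow_mul]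
    _ = 1 := by rw [h8, one_pow]

end ring

theorem exists_e : ∀ k : ZMod 47, k ^ 23 = 1 → k ≠ 1 → ∃ e : Fin 23, (e : ℕ) ≠ 0 ∧ 2 ^ (e : ℕ) = k := by
  decide +kernel

theorem two_e (e : ℕ) (he : ¬ 23 ∣ e) : Nat.gcd (2 ^ e - 1) (2 ^ 23 - 1) = 1 := by
  have h1 := Nat.pow_sub_one_gcd_pow_sub_one 2 e 23
  have h2 : Nat.gcd e 23 = 1 := by
    rcases (Nat.dvd_prime (by norm_num : Nat.Prime 23)).1 (Nat.gcd_dvd_right e 23) with h | h
    · exact h
    · exact absurd (h ▸ Nat.gcd_dvd_left e 23) he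
  rw [h1, h2]
  norm_num

/-- the fixed unit is trivial -/
theorem one_of_fix {R : Type*} [Ring R] (h2 : (2 : R) = 0) {u : R} (hu : u ^ 47 = 1) {g : R} {i k : ℕ} (hg : IsUnit g)
    (hgu : g = (1 + u + u ^ 2) * u ^ i) (hk : (k : ZMod 47) ^ 23 = 1) (hk1 : (k : ZMod 47) ≠ 1)
    (hgk : g = (1 + u ^ k + (u ^ k) ^ 2) * (u ^ k) ^ i) : g = 1 := by
  obtain ⟨e, he0, he⟩ := exists_e k hk hk1
  have hp : ∀ m : ℕ, u ^ m = u ^ (m % 47) := by
    intro m
    conv_lhs => rw [← Nat.div_add_mod m 47, pow_add, pow_mul, hu, one_pow, one_mul]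
  have hp' : ∀ m l : ℕ, (m : ZMod 47) = (l : ZMod 47) → u ^ m = u ^ l := by
    intro m l h
    rw [hp m, hp l, (ZMod.natCast_eq_natCast_iff' m l 47).1 h]
  have h3 : u ^ (2 ^ (e : ℕ)) = u ^ k := hp' _ _ (by push_cast; exact he)
  have h4 : u ^ (2 ^ 23) = u := by
    have : u ^ (2 ^ 23) = u ^ 1 := by
      rw [hp (2 ^ 23), hp 1]
      norm_num
    rw [this, pow_one]
  have h5 : g ^ (2 ^ (e : ℕ)) = g := by
    conv_lhs => rw [hgu]
    rw [frob' h2, h3, ← hgk]
  have h6 : g ^ (2 ^ 23) = g := by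
    conv_lhs => rw [hgu]
    rw [frob' h2, h4, ← hgu]
  obtain ⟨v, rfl⟩ := hg
  have h7 : v ^ (2 ^ (e : ℕ) - 1) = 1 := by
    have h8 : v ^ (2 ^ (e : ℕ) - 1) * v = 1 * v := by
      rw [← pow_succ, Nat.sub_add_cancel (Nat.one_le_two_pow), one_mul]
      exact Units.ext (by rw [Units.val_pow_eq_pow_val]; exact h5)
    exact mul_right_cancel h8
  have h8 : v ^ (2 ^ 23 - 1) = 1 := by
    have h8 : v ^ (2 ^ 23 - 1) * v = 1 * v := by
      rw [← pow_succ, Nat.sub_add_cancel (Nat.one_le_two_pow), one_mul]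
      exact Units.ext (by rw [Units.val_pow_eq_pow_val]; exact h6)
    exact mul_right_cancel h8
  have h9 : v ^ Nat.gcd (2 ^ (e : ℕ) - 1) (2 ^ 23 - 1) = 1 := by
    rw [← orderOf_dvd_iff_pow_eq_one] at h7 h8 ⊢
    exact Nat.dvd_gcd h7 h8
  rw [two_e e (by
    intro h
    obtain ⟨m, hm⟩ := h
    have := e.2
    omega), pow_one] at h9
  rw [h9]
  rfl

variable {ι : Type*} [Fintype ι] [DecidableEq ι] {F : Type*} [Field F] [Fintype F]

theorem isUnit_p (h2 : (2 : F) = 0) {u : Matrix ι ι F} (hu : u ^ 47 = 1) : IsUnit (1 + u + u ^ 2) := by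
  rw [← Matrix.mulVec_injective_iff_isUnit]
  have key : ∀ x : ι → F, (1 + u + u ^ 2).mulVec x = 0 → x = 0 := by
    intro x hx
    have h1 : x + u.mulVec x + u.mulVec (u.mulVec x) = 0 := by
      rw [Matrix.add_mulVec, Matrix.add_mulVec, Matrix.one_mulVec, pow_two, ← Matrix.mulVec_mulVec] at hx
      exact hx
    have h3 : u.mulVec x + u.mulVec (u.mulVec x) + u.mulVec (u.mulVec (u.mulVec x)) = 0 := by
      rw [← Matrix.mulVec_add, ← Matrix.mulVec_add, h1, Matrix.mulVec_zero]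
    have h4 : (u ^ 3).mulVec x = x := by
      have h5 : (u ^ 3).mulVec x = u.mulVec (u.mulVec (u.mulVec x)) := by
        rw [Matrix.mulVec_mulVec, Matrix.mulVec_mulVec, ← pow_three']
      rw [h5]
      have h6 : x = u.mulVec (u.mulVec (u.mulVec x)) := by
        have h7 := h1.trans h3.symm
        have h8 : x + (u.mulVec x + u.mulVec (u.mulVec x)) =
            u.mulVec (u.mulVec (u.mulVec x)) + (u.mulVec x + u.mulVec (u.mulVec x)) := by
          rw [← add_assoc, h7, add_comm]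
        exact add_right_cancel h8
      exact h6.symm
    have h5 : ∀ m : ℕ, ((u ^ 3) ^ m).mulVec x = x := by
      intro m
      induction m with
      | zero => rw [pow_zero, Matrix.one_mulVec]
      | succ m ih => rw [pow_succ, ← Matrix.mulVec_mulVec, h4, ih]
    have h6 : u.mulVec x = x := by
      have h7 : (u ^ 3) ^ 16 = u := by
        rw [← pow_mul]
        show u ^ (47 + 1) = u
        rw [pow_succ, hu, one_mul]
      conv_lhs => rw [← h7]
      exact h5 16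
    rw [h6, h6] at h1
    have h7 : x + x = 0 := by
      rw [← two_smul F x, h2, zero_smul]
    rwa [h7, zero_add] at h1
  intro x y hxy
  have h1 := key (x - y) (by rw [Matrix.mulVec_sub]; exact sub_eq_zero.2 hxy)
  exact sub_eq_zero.1 h1

end Cfsg.Agent.H948.EP
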