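import Cfsg.Agent.H948.EP.BFacts
import Cfsg.Agent.H948.EP.BPoly
import Cfsg.Agent.H284.EP.PS
import Cfsg.Agent.H419.EP.Big
import Cfsg.Agent.H59.EP.UB

/-!
# S3499, the Baby Monster: the linear case over the field of two elements (helper948)
-/

set_option autoImplicit false
set_option maxHeartbeats 400000

namespace Cfsg.Agent.H948.EP

open Subgroup Cfsg Cfsg.Agent.H284 Cfsg.Agent.H419.EP
open scoped MatrixGroups

variable {Q : Type} [Group Q] [Finite Q] {A : Subgroup Q} {Γ : Subgroup (MulAut Q)} {ι : Type} [Fintype ι]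
    [DecidableEq ι] {F : Type} [Field F] [Fintype F] {S P : Subgroup (GL ι F)}

theorem bN_factorization : ∀ l, l.Prime → l ∣ bN → l ≠ 47 → ¬ l ^ bN.factorization l ≡ 1 [MOD 47] := by
  have hbN : bN = 2 ^ 41 * (3 ^ 13 * (5 ^ 6 * (7 ^ 2 * (11 * (13 * (17 * (19 * (23 * (31 * 47))))))))) := by
    unfold bN; norm_num
  intro l hl hd hne
  have hmem : l = 2 ∨ l = 3 ∨ l = 5 ∨ l = 7 ∨ l = 11 ∨ l = 13 ∨ l = 17 ∨ l = 19 ∨ l = 23 ∨ l = 31 := by
    rw [hbN] at hd
    have hp : ∀ m : ℕ, m.Prime → ∀ k, l ∣ m ^ k → l = m := fun m hm k h => (Nat.prime_dvd_prime_iff_eq hl hm).1 (hl.dvd_of_dvd_pow h)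
    have hp1 : ∀ m : ℕ, m.Prime → l ∣ m → l = m := fun m hm h => (Nat.prime_dvd_prime_iff_eq hl hm).1 h
    simp only [hl.dvd_mul] at hd
    rcases hd with h | h | h | h | h | h | h | h | h | h | h
    · left; exact hp 2 (by norm_num) _ h
    · right; left; exact hp 3 (by norm_num) _ h
    · right; right; left; exact hp 5 (by norm_num) _ h
    · right; right; right; left; exact hp 7 (by norm_num) _ h
    · have := hp1 11 (by norm_num) h; tauto
    · have := hp1 13 (by norm_num) h; tauto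
    · have := hp1 17 (by norm_num) h; tauto
    · have := hp1 19 (by norm_num) h; tauto
    · have := hp1 23 (by norm_num) h; tauto
    · have := hp1 31 (by norm_num) h; tauto
    · exact absurd (hp1 47 (by norm_num) h) hne
  have hf : ∀ (m k r : ℕ), m.Prime → bN = m ^ k * r → ¬ m ∣ r → bN.factorization m = k := by
    intro m k r hm h hr
    rw [h, Nat.factorization_mul (pow_ne_zero _ hm.ne_zero) (by rintro rfl; exact hr (dvd_zero _)), Finsupp.add_apply,
      hm.factorization_pow, Finsupp.single_eq_same, Nat.factorization_eq_zero_of_not_dvd hr, add_zero]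
  rcases hmem with rfl | rfl | rfl | rfl | rfl | rfl | rfl | rfl | rfl | rfl
  · rw [hf 2 41 (bN / 2 ^ 41) (by norm_num) (by unfold bN; norm_num) (by unfold bN; norm_num)]; decide
  · rw [hf 3 13 (bN / 3 ^ 13) (by norm_num) (by unfold bN; norm_num) (by unfold bN; norm_num)]; decide
  · rw [hf 5 6 (bN / 5 ^ 6) (by norm_num) (by unfold bN; norm_num) (by unfold bN; norm_num)]; decide
  · rw [hf 7 2 (bN / 7 ^ 2) (by norm_num) (by unfold bN; norm_num) (by unfold bN; norm_num)]; decide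
  · rw [hf 11 1 (bN / 11 ^ 1) (by norm_num) (by unfold bN; norm_num) (by unfold bN; norm_num)]; decide
  · rw [hf 13 1 (bN / 13 ^ 1) (by norm_num) (by unfold bN; norm_num) (by unfold bN; norm_num)]; decide
  · rw [hf 17 1 (bN / 17 ^ 1) (by norm_num) (by unfold bN; norm_num) (by unfold bN; norm_num)]; decide
  · rw [hf 19 1 (bN / 19 ^ 1) (by norm_num) (by unfold bN; norm_num) (by unfold bN; norm_num)]; decide
  · rw [hf 23 1 (bN / 23 ^ 1) (by norm_num) (by unfold bN; norm_num) (by unfold bN; norm_num)]; decide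
  · rw [hf 31 1 (bN / 31 ^ 1) (by norm_num) (by unfold bN; norm_num) (by unfold bN; norm_num)]; decide

/-- no abelian normal subgroups -/
theorem noAb (b : Big A Γ S P) : ∀ K : Subgroup Q, K ≤ A → (∀ a ∈ A, ∀ k ∈ K, a * k * a⁻¹ ∈ K) →
    (∀ a ∈ K, ∀ b ∈ K, a * b = b * a) → K = ⊥ := fun K h1 h2 h3 =>
  b.hasSoc.no_abelian b.core.simple (fun h => b.core.nonabelian ⟨⟨h⟩⟩) h1 h2 h3

theorem lin2 (hK : Cfsg.Agent.H995.CopEngine.AllKnown.{0}) (b : Big A Γ S P) (e : socle P ≃* Spor.BabyMonster)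
    (hS : S = Cfsg.Geo.specialLinear ι F) (hF : Fintype.card F = 2) : False := by
  have hs47 : Fact (Nat.Prime 47) := ⟨by norm_num⟩
  obtain ⟨eA⟩ := exists_equiv (b.hasSoc' e)
  have hcA : Nat.card A = bN := card_of_equiv eA
  obtain ⟨y₀, hy₀⟩ := exists_prime_orderOf_dvd_card' (G := A) 47 (by rw [hcA]; unfold bN; norm_num)
  have hC₀ : ∀ a : A, a * y₀ = y₀ * a → a ∈ zpowers y₀ := fun a ha => cent47 hK eA hy₀ ha
  obtain ⟨w₀, hw₀, hwn₀, hN₀⟩ := exists_w hcA hy₀ hC₀
  -- in `Q`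
  set y : Q := (y₀ : Q) with hy
  set w : Q := (w₀ : Q) with hw
  have hyo : orderOf y = 47 := by rw [hy, Subgroup.orderOf_coe, hy₀]
  have hwo : orderOf w = 23 := by rw [hw, Subgroup.orderOf_coe, hw₀]
  have hmem : ∀ z ∈ zpowers y₀, (z : Q) ∈ zpowers y := by
    rintro _ ⟨k, rfl⟩
    exact ⟨k, by simp [hy]⟩
  have hmem' : ∀ z ∈ zpowers y, ∃ z' : A, z' ∈ zpowers y₀ ∧ (z' : Q) = z := by
    rintro _ ⟨k, rfl⟩
    exact ⟨y₀ ^ k, ⟨k, rfl⟩, by simp [hy]⟩
  have hYA : zpowers y ≤ A := by rw [zpowers_le]; exact y₀.2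
  have hYc : ∀ a ∈ A, (∀ z ∈ zpowers y, a * z = z * a) → a ∈ zpowers y := by
    intro a ha h1
    have h2 := hC₀ ⟨a, ha⟩ (Subtype.ext (h1 y (mem_zpowers y)))
    exact hmem _ h2
  have hwY : ∀ z ∈ zpowers y, w * z * w⁻¹ ∈ zpowers y := by
    intro z hz
    obtain ⟨z', hz', rfl⟩ := hmem' z hz
    exact hmem _ (hwn₀ z' hz')
  have hN : ∀ a ∈ A, (∀ z ∈ zpowers y, a * z * a⁻¹ ∈ zpowers y) → ∃ z ∈ zpowers y, ∃ k : ℤ, a = z * w ^ k := by
    intro a ha h1
    obtain ⟨z, hz, k, h2⟩ := hN₀ ⟨a, ha⟩ (by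
      intro z hz
      obtain ⟨z', hz', h3⟩ := hmem' _ (h1 _ (hmem z hz))
      have : (⟨a, ha⟩ : A) * z * (⟨a, ha⟩ : A)⁻¹ = z' := Subtype.ext h3.symm
      rw [this]
      exact hz')
    refine ⟨z, hmem z hz, k, ?_⟩
    have := congrArg (Subtype.val) h2
    simpa [hw] using this
  -- the matrix of `y`
  obtain ⟨uS, huS⟩ := b.m.surj y
  have hFu : ∀ c : Fˣ, c = 1 := by
    intro c
    have h1 : c ^ (Fintype.card F - 1) = 1 := by
      apply Units.ext
      rw [Units.val_pow_eq_pow_val]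
      exact FiniteField.pow_card_sub_one_eq_one (c : F) c.ne_zero
    rw [hF] at h1
    simpa using h1
  have hinj : Function.Injective b.m.π := by
    rw [injective_iff_map_eq_one]
    intro s hs
    obtain ⟨c, hc⟩ := (Cfsg.Geo.mem_scalars_iff _).1 ((b.m.ker s).1 hs)
    rw [hFu c] at hc
    apply Subtype.ext
    apply Units.ext
    rw [hc]
    simp
  have hmemS : ∀ g : GL ι F, g ∈ S := by
    intro g
    rw [hS]
    exact MonoidHom.mem_ker.2 (hFu _)
  let E : GL ι F →* Q := b.m.π.comp (MonoidHom.codRestrict (MonoidHom.id _) S hmemS)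
  have hE : ∀ g, E g = b.m.π ⟨g, hmemS g⟩ := fun g => rfl
  have hEi : Function.Injective E := by
    intro g h hgh
    have := hinj hgh
    exact congrArg Subtype.val this
  have hEs : Function.Surjective E := by
    intro q
    obtain ⟨s, hs⟩ := b.m.surj q
    exact ⟨s, hs⟩
  obtain ⟨u, hu⟩ := hEs y
  obtain ⟨v, hv⟩ := hEs w
  have hu47 : u ^ 47 = 1 := hEi (by rw [map_pow, hu, map_one, ← hyo, pow_orderOf_eq_one])
  have hu1 : u ≠ 1 := by
    rintro rfl
    rw [map_one] at hu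
    rw [← hu, orderOf_one] at hyo
    norm_num at hyo
  have h2F : (2 : F) = 0 := by
    have h3 := FiniteField.cast_card_eq_zero F
    rw [hF] at h3
    exact_mod_cast h3
  have h2M : (2 : Matrix ι ι F) = 0 := by
    have h4 : (2 : Matrix ι ι F) = (2 : F) • (1 : Matrix ι ι F) := by
      rw [two_smul]; norm_num
    rw [h4, h2F, zero_smul]
  have huM : (u : Matrix ι ι F) ^ 47 = 1 := by
    rw [← Units.val_pow_eq_pow_val, hu47, Units.val_one]
  have huM1 : (u : Matrix ι ι F) ≠ 1 := fun h => hu1 (Units.ext h)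
  obtain ⟨c, hc⟩ := isUnit_p h2F huM
  have hcu : c * u = u * c := by
    apply Units.ext
    rw [Units.val_mul, Units.val_mul, hc]
    noncomm_ring
  have hcp : ∀ j : ℕ, c ≠ u ^ j := by
    intro j h
    refine p_ne_pow h2M huM huM1 j ?_
    rw [← hc, h, Units.val_pow_eq_pow_val]
  -- natural powers
  have hnat : ∀ z ∈ zpowers y, ∃ j : ℕ, z = y ^ j := by
    intro z hz
    have hf : Finite Q := inferInstance
    obtain ⟨j, hj⟩ := (Submonoid.mem_powers_iff _ _).1 (mem_powers_iff_mem_zpowers.2 hz)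
    exact ⟨j, hj.symm⟩
  have hcy : ∀ z ∈ zpowers y, E c * z = z * E c := by
    intro z hz
    obtain ⟨j, rfl⟩ := hnat z hz
    have h1 : Commute c u := hcu
    have h2 := (h1.pow_right j).eq
    rw [← hu, ← map_pow, ← map_mul, ← map_mul, h2]
  have hcnA : E c ∉ A := by
    intro h
    obtain ⟨j, hj⟩ := hnat _ (hYc _ h hcy)
    apply hcp j
    apply hEi
    rw [hj, map_pow, hu]
  have hfrob : ∀ l, l.Prime → l ∣ Nat.card A → l ≠ 47 → ¬ l ^ (Nat.card A).factorization l ≡ 1 [MOD 47] := by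
    rw [hcA]
    exact bN_factorization
  have hno : ∀ K : Subgroup Q, K ≤ A → (∀ σ ∈ Γ, ∀ k ∈ K, σ k ∈ K) → (∀ a ∈ K, ∀ b ∈ K, a * b = b * a) → K = ⊥ := by
    intro K h1 h2 h3
    exact noAb b K h1 (fun a ha k hk => h2 _ ((b.ept.conj a).2 ha) k hk) h3
  obtain ⟨l, hl, hlw, z, hz, hcz⟩ := b.ept.PS hno (by norm_num : Nat.Prime 47) hYA (by rw [Nat.card_zpowers, hyo]) hYc hfrob
    hwY (by rw [hwo]; norm_num) hN hcy hcnA
  rw [hwo] at hlw hcz
  have hl23 : l = 23 := (Nat.prime_dvd_prime_iff_eq hl (by norm_num)).1 hlw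
  rw [hl23, show 23 / 23 = 1 from rfl, pow_one] at hcz
  obtain ⟨i, rfl⟩ := hnat z hz
  -- `w y w⁻¹ = y ^ k`
  obtain ⟨k, hk⟩ := hnat _ (hwY y (mem_zpowers y))
  have hvk : v * u * v⁻¹ = u ^ k := hEi (by rw [map_mul, map_mul, map_inv, map_pow, hu, hv, hk])
  have hconj : ∀ m : ℕ, w ^ m * y * (w ^ m)⁻¹ = y ^ (k ^ m) := by
    intro m
    induction m with
    | zero => simp
    | succ m ih =>
      calc w ^ (m + 1) * y * (w ^ (m + 1))⁻¹ = w ^ m * (w * y * w⁻¹) * (w ^ m)⁻¹ := by rw [pow_succ]; group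
        _ = w ^ m * y ^ k * (w ^ m)⁻¹ := by rw [hk]
        _ = (w ^ m * y * (w ^ m)⁻¹) ^ k := by rw [conj_pow]
        _ = y ^ (k ^ (m + 1)) := by rw [ih, ← pow_mul, ← pow_succ]
  have hk23 : (k : ZMod 47) ^ 23 = 1 := by
    have h1 := hconj 23
    rw [← hwo, pow_orderOf_eq_one, one_mul, inv_one, mul_one, hwo] at h1
    have h2 : k ^ 23 ≡ 1 [MOD 47] := by
      rw [← hyo]
      exact pow_eq_pow_iff_modEq.1 (by rw [← h1, pow_one])
    have h3 := (ZMod.natCast_eq_natCast_iff (k ^ 23) 1 47).2 h2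
    push_cast at h3
    exact h3
  have hk1 : (k : ZMod 47) ≠ 1 := by
    intro h
    have h1 : k ≡ 1 [MOD 47] := (ZMod.natCast_eq_natCast_iff k 1 47).1 (by push_cast; exact h)
    have h2 : y ^ k = y := by
      have := pow_eq_pow_iff_modEq.2 (show k ≡ 1 [MOD orderOf y] by rw [hyo]; exact h1)
      rwa [pow_one] at this
    rw [h2, mul_inv_eq_iff_eq_mul] at hk
    have h3 : w ∈ zpowers y := by
      apply hYc w w₀.2
      intro z hz
      obtain ⟨j, rfl⟩ := hnat z hz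
      exact ((show Commute w y from hk).pow_right j).eq
    have h4 : orderOf w ∣ 47 := by
      rw [← hyo]
      exact orderOf_dvd_of_mem_zpowers h3
    rw [hwo] at h4
    norm_num at h4
  -- the fixed unit
  set g : GL ι F := c * u ^ i with hg
  have hEg : E g = E c * y ^ i := by rw [hg, map_mul, map_pow, hu]
  have hgw : g * v = v * g := hEi (by
    have h1 : E (g * v) = E g * E v := map_mul E g v
    have h2 : E (v * g) = E v * E g := map_mul E v g
    rw [h1, h2, hEg, hv]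
    exact hcz)
  have hg1 : (g : Matrix ι ι F) = (1 + (u : Matrix ι ι F) + (u : Matrix ι ι F) ^ 2) * (u : Matrix ι ι F) ^ i := by
    rw [hg, Units.val_mul, hc, Units.val_pow_eq_pow_val]
  have hvu : (v : Matrix ι ι F) * u * ((v⁻¹ : GL ι F) : Matrix ι ι F) = (u : Matrix ι ι F) ^ k := by
    rw [← Units.val_mul, ← Units.val_mul, hvk, Units.val_pow_eq_pow_val]
  have hg2 : (g : Matrix ι ι F) = (1 + (u : Matrix ι ι F) ^ k + ((u : Matrix ι ι F) ^ k) ^ 2) *
      ((u : Matrix ι ι F) ^ k) ^ i := by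
    have h1 : g = v * g * v⁻¹ := by rw [← hgw]; group
    have hvv : ((v⁻¹ : GL ι F) : Matrix ι ι F) * (v : Matrix ι ι F) = 1 := Units.inv_mul v
    have hvv' : (v : Matrix ι ι F) * ((v⁻¹ : GL ι F) : Matrix ι ι F) = 1 := Units.mul_inv v
    have hpow : ∀ m : ℕ, ((u : Matrix ι ι F) ^ k) ^ m = (v : Matrix ι ι F) * (u : Matrix ι ι F) ^ m *
        ((v⁻¹ : GL ι F) : Matrix ι ι F) := by
      intro m
      have h2 : (u ^ k) ^ m = v * u ^ m * v⁻¹ := by rw [← hvk, conj_pow]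
      have h3 := congrArg Units.val h2
      simpa only [Units.val_mul, Units.val_pow_eq_pow_val] using h3
    calc (g : Matrix ι ι F) = (v : Matrix ι ι F) * g * ((v⁻¹ : GL ι F) : Matrix ι ι F) := by
          conv_lhs => rw [h1]
          rw [Units.val_mul, Units.val_mul]
      _ = (v : Matrix ι ι F) * ((1 + (u : Matrix ι ι F) + (u : Matrix ι ι F) ^ 2) * (u : Matrix ι ι F) ^ i) *
          ((v⁻¹ : GL ι F) : Matrix ι ι F) := by rw [hg1]
      _ = ((v : Matrix ι ι F) * (1 + (u : Matrix ι ι F) + (u : Matrix ι ι F) ^ 2) * ((v⁻¹ : GL ι F) : Matrix ι ι F)) *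
          ((v : Matrix ι ι F) * (u : Matrix ι ι F) ^ i * ((v⁻¹ : GL ι F) : Matrix ι ι F)) := by
          simp only [mul_assoc]
          rw [← mul_assoc ((v⁻¹ : GL ι F) : Matrix ι ι F) (v : Matrix ι ι F), hvv, one_mul]
      _ = _ := by
          rw [← hpow i]
          congr 1
          rw [mul_add, mul_add, add_mul, add_mul, mul_one, hvv', hvu, ← hpow 2]
  have hfin := one_of_fix h2M huM ⟨g, rfl⟩ hg1 hk23 hk1 hg2
  have hg3 : g = 1 := Units.ext hfin
  -- `c` is a power of `u`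
  have h1 : c = u ^ (47 * i - i) := by
    have h2 : c * u ^ i = 1 := by rw [← hg, hg3]
    have h3 : u ^ (47 * i - i) * u ^ i = 1 := by
      rw [← pow_add, Nat.sub_add_cancel (by omega), pow_mul, hu47, one_pow]
    exact mul_right_cancel (h2.trans h3.symm)
  exact hcp _ h1

end Cfsg.Agent.H948.EP
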